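import Cfsg.Agent.L34S.C
import Cfsg.Agent.L34S.P3
import Cfsg.Agent.S2601
import Cfsg.Agent.Classical.SLGen
import Cfsg.Agent.Classical.SLCard
import Cfsg.Agent.Fischer.Cent

/-! Recognition of `PGL₃(4)` from a frame and of its automorphism group (helper9). -/

set_option autoImplicit false
set_option linter.unusedSectionVars false

namespace Cfsg.Agent.A34

open Cfsg.Agent.BG Cfsg.Agent.CIT Cfsg.Agent.L34S Subgroup Matrix

theorem card_aut_le {X : Type*} [Group X] [Finite X] (N : Subgroup X) [hN : N.Normal]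
    (hc : ∀ α : MulAut X, ∀ n ∈ N, α n ∈ N) (h : ∀ x, (∀ n ∈ N, x * n = n * x) → x = 1) :
    Nat.card (MulAut X) ≤ Nat.card (MulAut N) := by
  refine Nat.card_le_card_of_injective (fun α : MulAut X => (⟨⟨fun n => ⟨α n, hc α _ n.2⟩, fun n => ⟨α⁻¹ n, hc _ _ n.2⟩,
    fun n => Subtype.ext (α.symm_apply_apply n), fun n => Subtype.ext (α.apply_symm_apply n)⟩,
    fun a b => Subtype.ext (map_mul α _ _)⟩ : MulAut N)) fun α β e => MulEquiv.ext fun x => ?_
  have k : ∀ n ∈ N, α n = β n := fun n hn => congrArg Subtype.val (MulEquiv.congr_fun e ⟨n, hn⟩)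
  refine (inv_mul_eq_one.1 (h _ fun n hn => ?_)).symm
  obtain ⟨m, rfl⟩ := α.surjective n
  have hm : m ∈ N := α.symm_apply_apply m ▸ hc α⁻¹ _ hn
  have := k _ (hN.conj_mem _ hm x)
  simp only [map_mul, map_inv, ← k m hm] at this
  calc _ = (β x)⁻¹ * (α x * α m * (α x)⁻¹) * α x := by group
    _ = _ := by rw [this]; group

variable {F : Type*} [Field F] [Fintype F]

theorem card_aut (hF : Fintype.card F = 4) :
    Nat.card (MulAut (GL (Fin 3) F ⧸ center (GL (Fin 3) F))) ≤ 241920 := by
  classical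
  have := Nat.fact_prime_two
  have sm := Classical.isSimpleGroup_PSL (ι := Fin 3) (F := F) (by simp)
  have c1 : Nat.card (ProjectiveSpecialLinearGroup (Fin 3) F) = 20160 := by
    have h1 := Classical.card_PSL_mul (F := F) (ι := Fin 3)
    have h2 := Classical.card_SL_mul (F := F) 3 (by norm_num)
    simp only [Nat.card_eq_fintype_card (α := F), hF, Fin.prod_univ_three, Fintype.card_fin] at h1 h2
    norm_num at h1 h2
    rw [Nat.card_eq_fintype_card]
    omega
  have zc : center (ProjectiveSpecialLinearGroup (Fin 3) F) = ⊥ :=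
    (sm.eq_bot_or_eq_top_of_normal _ inferInstance).resolve_right fun e => by
      have : IsMulCommutative (ProjectiveSpecialLinearGroup (Fin 3) F) := ⟨⟨fun a b => mem_center_iff.1 (e.ge (mem_top b)) a⟩⟩
      exact absurd (c1 ▸ Group.is_simple_iff_prime_card.1 sm) (by norm_num)
  have c2 : Nat.card (MulAut (ProjectiveSpecialLinearGroup (Fin 3) F)) = 241920 := by
    obtain ⟨φ, h1, -, h2⟩ := S2601.result (p := 2) (f := 2) (n := 3) (F := F) one_le_two hF le_rfl
    rw [Fischer.card_aut_eq zc, c1, ← φ.ker.card_mul_index, h2, index_ker, MonoidHom.range_eq_top.2 h1, card_top]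
    simp
  let ι : ProjectiveSpecialLinearGroup (Fin 3) F →* GL (Fin 3) F ⧸ center (GL (Fin 3) F) :=
    ProjectiveSpecialLinearGroup.toPGL
  let e := MonoidHom.ofInjective (f := ι) ProjectiveSpecialLinearGroup.toPGL_injective
  have cN : Nat.card ι.range = 20160 := (Nat.card_congr e.toEquiv).symm.trans c1
  have iN : ι.range.index = 3 := by
    have := ι.range.card_mul_index
    rw [cN, card_pgl3 hF] at this; omega
  have sN := e.isSimpleGroup_congr.1 sm
  have nN : ι.range.Normal := ⟨by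
    rintro _ ⟨⟨s⟩, rfl⟩ ⟨g⟩
    exact ⟨QuotientGroup.mk ⟨(g * SpecialLinearGroup.toGL s * g⁻¹).1, by
      simp [det_mul, g.det_ne_zero]⟩, congrArg QuotientGroup.mk (Units.ext rfl)⟩⟩
  rw [← c2, Nat.card_congr (MulAut.congr e).toEquiv]
  refine card_aut_le _ (fun α n hn => ?_) ?_
  · have := nN.comap α.toMonoidHom
    refine subgroupOf_eq_top.1 ((sN.eq_bot_or_eq_top_of_normal ((ι.range.comap α.toMonoidHom).subgroupOf ι.range)
      inferInstance).resolve_left fun k => ?_) hn
    have := relIndex_dvd_index_of_normal (ι.range.comap α.toMonoidHom) ι.range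
    rw [relIndex, k, index_bot, cN, index_comap_of_surjective _ α.surjective, iN] at this
    omega
  rintro ⟨g⟩ h
  refine (QuotientGroup.eq_one_iff g).2 (GeneralLinearGroup.mem_center_iff_val_mem_range_scalar.2
    (mem_range_scalar_of_commute_transvectionStruct fun t => ?_))
  have h2 : (2 : F) = 0 := by
    have := FiniteField.cast_card_eq_zero F
    rw [hF] at this
    exact pow_eq_zero_iff two_ne_zero |>.1 (by rw [← this]; norm_num)
  obtain ⟨u, hu⟩ : ∃ u : GL (Fin 3) F, u = SpecialLinearGroup.toGL ⟨t.toMatrix, t.det⟩ := ⟨_, rfl⟩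
  have u2 : u * u = 1 := Units.ext (by
    rw [hu]
    change transvection t.i t.j t.c * transvection t.i t.j t.c = 1
    rw [transvection_mul_transvection_same _ _ t.hij, ← two_mul, h2, zero_mul, transvection_zero])
  have hz : (g * u)⁻¹ * (u * g) ∈ center (GL (Fin 3) F) := QuotientGroup.eq.1 (hu ▸ h _ ⟨QuotientGroup.mk _, rfl⟩)
  have z3 := congrArg Subtype.val (pow_card_eq_one' (x := (⟨_, hz⟩ : center (GL (Fin 3) F))))
  rw [Classical.card_center_GL, Nat.card_eq_fintype_card, Fintype.card_units, hF, coe_pow] at z3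
  generalize hw : (g * u)⁻¹ * (u * g) = w at hz z3
  have e1 : g⁻¹ * u * g = u * w := by rw [← hw]; group
  have z2 : w * w = 1 := by
    calc _ = u * w * (u * w) := by rw [mul_assoc, ← mul_assoc w, ← mem_center_iff.1 hz u, mul_assoc, ← mul_assoc u, u2, one_mul]
      _ = g⁻¹ * (u * u) * g := by rw [← e1]; group
      _ = 1 := by rw [u2]; group
  have : w = 1 := by simpa [pow_succ, z2] using z3
  rw [this, inv_mul_eq_one, hu] at hw
  exact congrArg Units.val hw.symm

theorem fin (hF : Fintype.card F = 4) {G : Type*} [Group G] [Finite G] (K : Subgroup G) [K.Normal]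
    (hK : Nonempty (K ≃* GL (Fin 3) F ⧸ center (GL (Fin 3) F))) (hi : K.index = 4)
    (hC : Subgroup.centralizer (K : Set G) = ⊥) : Nonempty (G ≃* MulAut (GL (Fin 3) F ⧸ center (GL (Fin 3) F))) := by
  obtain ⟨e⟩ := hK
  have inj : Function.Injective ((MulAut.congr e).toMonoidHom.comp MulAut.conjNormal) :=
    (MulAut.congr e).injective.comp ((injective_iff_map_eq_one _).2 fun g h => mem_bot.1 (hC.le fun k hk =>
      (mul_inv_eq_iff_eq_mul.1 (congrArg Subtype.val (MulEquiv.congr_fun h ⟨k, hk⟩))).symm))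
  exact ⟨.ofBijective _ (inj.bijective_of_nat_card_le (by
    rw [← K.card_mul_index, hi, Nat.card_congr e.toEquiv, card_pgl3 hF]; exact card_aut hF))⟩

theorem pgl (hF : Fintype.card F = 4) {G : Type*} [Group G] [Finite G] {T A B : Subgroup G} (h : Fr T A B)
    (hO : oddCore G = ⊥) (nA : ¬ A.Normal) (nB : ¬ B.Normal) {z : G} (hz : z ∈ A ⊓ B) (z1 : z ≠ 1)
    (c : Nat.card C1[z] = 192) : Nonempty (G ≃* GL (Fin 3) F ⧸ center (GL (Fin 3) F)) := by
  obtain ⟨tA, tB⟩ := ((h.cases hO).resolve_left nA).resolve_left nB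
  have hC := fun z hz z1 => h.hC (z := z) hO tA tB hz z1
  obtain ⟨f, hf⟩ := h.plane hC tA tB hO hF
  have c0 := (hC z hz z1).trans h.NT
  have c1 := idx_eq (A := N[A]) (B := C1[z]) (fun n => n * z * n⁻¹) {v | v ∈ A ∧ v ≠ 1}
    (fun n hn => ⟨conj_mem_of_norm hn hz.1, by simpa using z1⟩)
    (fun a _ b _ => by
      rw [mem_cent1]
      exact ⟨fun e => by
        calc a⁻¹ * b * z = a⁻¹ * (b * z * b⁻¹) * b := by group
          _ = _ := by rw [← show a * z * a⁻¹ = _ from e]; group, fun e => by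
        calc a * z * a⁻¹ = a * (z * (a⁻¹ * b)) * b⁻¹ := by group
          _ = _ := by rw [← e]; group⟩)
    fun v hv => tA z hz.1 z1 v hv.1 hv.2
  have c2 := card_ne_one A
  have c3 := idx_eq (A := ⊤) (B := N[A]) (BG.cj · A) {X | Pt A X} (fun a _ => ⟨a, rfl⟩) (fun _ _ _ _ => cj_eq_cj)
    fun X hX => hX.imp fun _ e => ⟨trivial, e⟩
  obtain rfl := h.sup
  rw [relIndex_top_right, Pq.card_pts ⟨h, hC, tA, tB⟩] at c3
  rw [← c1, h.cA] at c2
  exact ⟨.ofBijective f (hf.bijective_of_nat_card_le (by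
    rw [card_pgl3 hF, ← N[A].card_mul_index, c3, ← card_mul_relIndex c0, c]; omega))⟩

end Cfsg.Agent.A34
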