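import Cfsg.Agent.A34.T3
import Cfsg.Agent.A34.Fin
import Cfsg.Agent.Invol.ZS
import Cfsg.Agent.FTC.Aniso
import Cfsg.Agent.Char.Burnside

/-! S3237, part T5: `O(G)` is abelian (`Hs.odd_comm`), the isolated case (`Hs.solv`), the final identification
(`Fz.final`). -/
set_option autoImplicit false
set_option linter.unusedSectionVars false
set_option linter.unusedVariables false
namespace Cfsg.Agent.A34
open Subgroup BG PLocal

variable {G : Type*} [Group G] [Finite G] {z v b c : G} {T A B Q M S : Subgroup G}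

theorem t5_inv {K : Subgroup G} [K.Normal] {t : G} (t2 : t * t = 1) (h : ∀ x ∈ K, x * t = t * x → x = 1) :
    ∀ x ∈ K, t * x * t⁻¹ = x⁻¹ := by
  have ti : t⁻¹ = t := inv_eq_of_mul_eq_one_right t2
  let f : K → K := fun x => ⟨x * (t * (x : G)⁻¹ * t⁻¹), mul_mem x.2 (Normal.conj_mem ‹_› _ (inv_mem x.2) t)⟩
  have fi : Function.Injective f := fun x y e => by
    have e1 : (x : G) * (t * (x : G)⁻¹ * t⁻¹) = y * (t * (y : G)⁻¹ * t⁻¹) := congrArg Subtype.val e
    have := h ((y : G)⁻¹ * x) (mul_mem (inv_mem y.2) x.2) (by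
      calc (y : G)⁻¹ * x * t = (y : G)⁻¹ * (x * (t * (x : G)⁻¹ * t⁻¹)) * t * x := by group
        _ = _ := by rw [e1]; group)
    exact Subtype.ext (inv_mul_eq_one.1 this).symm
  intro x hx
  obtain ⟨y, hy⟩ := Finite.injective_iff_surjective.1 fi ⟨x, hx⟩
  have e1 : (y : G) * (t * (y : G)⁻¹ * t⁻¹) = x := congrArg Subtype.val hy
  rw [← e1]
  calc t * ((y : G) * (t * (y : G)⁻¹ * t⁻¹)) * t⁻¹ = t * y * t⁻¹ * (t * t) * (y : G)⁻¹ * (t * t)⁻¹ := by group
    _ = _ := by rw [t2]; group

theorem Hs.t5_bot (h : Hs z v b c T A B Q M S) : ∀ x ∈ oddCore G, x * z = z * x → x = 1 := fun x hx e => by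
  have xH : x ∈ C1[z] := t3_mem.2 e
  have odd : ∀ y ∈ oddCore G, y ^ 2 ^ 7 = 1 → y = 1 := fun y hy e =>
    Invol.eq_one_of_odd_of_pow_two_pow (Invol.odd_orderOf_of_mem Invol.odd_oddCore hy) e
  rcases h.CQ x xH (fun q hq => by
    have m1 : x * q * x⁻¹ * q⁻¹ ∈ Q := mul_mem (h.nQ x xH q hq) (inv_mem hq)
    have m2 : x * q * x⁻¹ * q⁻¹ ∈ oddCore G := by
      have := mul_mem hx ((inferInstance : (oddCore G).Normal).conj_mem _ (inv_mem hx) q)
      simpa only [mul_assoc] using this
    have := odd _ m2 (by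
      have := pow_card_eq_one' (G := Q) (x := ⟨_, m1⟩)
      rw [h.cQ] at this
      exact congrArg Subtype.val this)
    rwa [mul_inv_eq_one, mul_inv_eq_iff_eq_mul] at this) with e1 | e1
  · exact e1
  · exact odd x hx (by rw [e1, pow_succ', pow_mul, sq, h.z2, one_pow])

theorem Hs.t5_invz (h : Hs z v b c T A B Q M S) : ∀ x ∈ oddCore G, z * x * z⁻¹ = x⁻¹ := t5_inv h.z2 h.t5_bot

theorem Hs.odd_comm (h : Hs z v b c T A B Q M S) : IsMulCommutative (oddCore G) := ⟨⟨fun x y => Subtype.ext (by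
  have := h.t5_invz _ (mul_mem x.2 y.2)
  rw [← conj_mul, h.t5_invz _ x.2, h.t5_invz _ y.2, ← mul_inv_rev, inv_inj] at this
  exact this.symm)⟩⟩

theorem Hs.t5_solH (h : Hs z v b c T A B Q M S) : Group.IsSolvable C1[z] :=
  Char.isSolvable_of_two_primes (p := 2) (q := 3) fun r hr hd => by
    rw [h.cH, show 768 = 2 ^ 8 * 3 by norm_num] at hd
    rcases (Nat.Prime.dvd_mul hr).1 hd with e | e
    · exact .inl ((Nat.prime_dvd_prime_iff_eq hr Nat.prime_two).1 (hr.dvd_of_dvd_pow e))
    · exact .inr ((Nat.prime_dvd_prime_iff_eq hr Nat.prime_three).1 e)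

theorem Hs.solv (h : Hs z v b c T A B Q M S) (hi : IsIsolatedInvolution z) : Group.IsSolvable G := by
  have := h.t5_solH
  have := h.odd_comm
  have : Group.IsSolvable (G ⧸ oddCore G) := solvable_of_surjective
    (f := (QuotientGroup.mk' (oddCore G)).comp (centralizer ({z} : Set G)).subtype) fun q => by
      obtain ⟨g, rfl⟩ := QuotientGroup.mk_surjective q
      obtain ⟨o, ho, k, hk, rfl⟩ := Invol.exists_oddCore_mul_centralizer (x := z) (n := 1)
        (by rw [pow_one, sq, h.z2]) (Block.zstar hi) g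
      exact ⟨⟨k, t3_mem.2 hk⟩, by simp [(QuotientGroup.eq_one_iff o).2 ho]⟩
  have : Group.IsSolvable (oddCore G) := FTC.solvable_of_odd Invol.odd_oddCore
  exact solvable_of_ker_le_range (oddCore G).subtype (QuotientGroup.mk' (oddCore G)) (by simp)

theorem Fz.t5_O (h : Fz z v b c T A B Q M S) : oddCore G = ⊥ := by
  have n : (oddCore G).Normal := inferInstance
  have cj : ∀ t, IsConj z t → ∀ x ∈ oddCore G, t * x * t⁻¹ = x⁻¹ := fun t ht x hx => by
    obtain ⟨g, rfl⟩ := isConj_iff.1 ht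
    have := h.t5_invz _ (n.conj_mem' x hx g)
    calc _ = g * (z * (g⁻¹ * x * g) * z⁻¹) * g⁻¹ := by group
      _ = _ := by rw [this]; group
  refine eq_bot_iff.2 fun x hx => ?_
  have e1 := cj _ (h.zv.trans (isConj_iff.2 ⟨b, h.bv⟩)) x hx
  have e2 : v * z * x * (v * z)⁻¹ = x := by
    calc _ = v * (z * x * z⁻¹) * v⁻¹ := by group
      _ = _ := by rw [h.t5_invz x hx, cj v h.zv _ (inv_mem hx), inv_inv]
  refine Invol.eq_one_of_odd_of_pow_two_pow (Invol.odd_orderOf_of_mem Invol.odd_oddCore hx) (n := 1) ?_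
  rw [pow_one, sq]
  nth_rewrite 1 [e2.symm.trans e1]
  exact inv_mul_cancel x

theorem Fz.t5_cU (h : Fz z v b c T A B Q M S) : #(A ⊓ B : Subgroup G) = 4 := by
  classical
  have e : ((A ⊓ B : Subgroup G) : Set G) = {1, z, v, v * z} := Set.ext fun x => h.U x
  have hv : v * z ≠ 1 := fun e => h.vz (by rw [eq_inv_of_mul_eq_one_left e, inv_eq_of_mul_eq_one_right h.z2])
  show Nat.card ((A ⊓ B : Subgroup G) : Set G) = 4
  rw [Nat.card_coe_set_eq, e, Set.ncard_insert_of_notMem, Set.ncard_insert_of_notMem, Set.ncard_pair]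
  · simpa using h.z1
  · simp [h.vz.symm, h.v1]
  · simp [h.z1.symm, h.v1.symm, hv.symm]

theorem Fz.t5_fr (h : Fz z v b c T A B Q M S) (syl : SylowIn 2 S ⊤) (K : Subgroup G) [K.Normal] (hS : S ⊓ K = T) :
    L34S.Fr (T.subgroupOf K) (A.subgroupOf K) (B.subgroupOf K) := by
  have TK : T ≤ K := hS ▸ inf_le_right
  have cs : ∀ {X : Subgroup G}, X ≤ K → #(X.subgroupOf K) = #X := fun hX =>
    Nat.card_congr (subgroupOfEquivOfLe hX).toEquiv
  refine ⟨?_, ?_, by rw [cs (h.AT.trans TK), h.cA], by rw [cs (h.BT.trans TK), h.cB], ?_,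
    fun a ha => Subtype.ext (h.eA a ha), fun a ha => Subtype.ext (h.eB a ha),
    fun t ht e => h.inv t ht (congrArg Subtype.val e), fun x hx y hy e => ?_, fun x hx y hy => h.com x hx y hy⟩
  · have := pHall_subgroupOf le_rfl (Hall_setI_normal (normal_top K) syl)
    rwa [hS, subgroupOf_self] at this
  · refine le_antisymm (sup_le (fun x hx => h.AT hx) fun x hx => h.BT hx) fun x hx => ?_
    obtain ⟨a, ha, a', ha', e⟩ := h.AB x hx
    have : x = ⟨a, TK (h.AT ha)⟩ * ⟨a', TK (h.BT ha')⟩ := Subtype.ext e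
    rw [this]
    exact mul_mem (mem_sup_left ha) (mem_sup_right ha')
  · rw [← h.t5_cU, ← cs (X := A ⊓ B) (inf_le_left.trans (h.AT.trans TK))]; rfl
  · have e' : (x : G) * y = y * x := congrArg Subtype.val e
    rcases h.inv (x * y) (mul_mem (h.AT hx) (h.BT hy)) (by
      calc (x : G) * y * (x * y) = x * (y * x) * y := by group
        _ = (x * x) * (y * y) := by rw [← e']; group
        _ = 1 := by rw [h.eA x hx, h.eB y hy, one_mul]) with e1 | e1
    · exact .inr ((mul_mem_cancel_left hx).1 e1)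
    · exact .inl ((mul_mem_cancel_right hy).1 e1)

theorem Fz.final (h : Fz z v b c T A B Q M S) (syl : SylowIn 2 S ⊤) (K : Subgroup G) [K.Normal] (hi : K.index = 4)
    (hS : S ⊓ K = T) (hH : #(C1[z] ⊓ K : Subgroup G) = 192) (ns : ¬ Group.IsSolvable G)
    {F : Type*} [Field F] [Fintype F] (hF : Fintype.card F = 4) :
    Nonempty (G ≃* MulAut (GL (Fin 3) F ⧸ center (GL (Fin 3) F))) := by
  have nK : K.Normal := inferInstance
  have TK : T ≤ K := hS ▸ inf_le_right
  have fr := h.t5_fr syl K hS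
  have zK : z ∈ K := TK (h.AT h.t3_zU.1)
  have nsK : ¬ Group.IsSolvable K := fun sK => ns (by
    have : Group.IsSolvable (G ⧸ K) := by
      have : IsPGroup 2 (G ⧸ K) := IsPGroup.of_card (n := 2) (by rw [← index_eq_card, hi]; rfl)
      have := this.isNilpotent
      infer_instance
    exact solvable_of_ker_le_range K.subtype (QuotientGroup.mk' K) (by simp))
  have hO : oddCore K = ⊥ := by
    have := Solv.map_subtype_pPrimeCore_le (p := 2) K
    rw [show pPrimeCore 2 G = ⊥ from h.t5_O, le_bot_iff, map_eq_bot_iff_of_injective _ K.subtype_injective] at this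
    exact this
  have nn : ¬ ((A.subgroupOf K).Normal ∧ (B.subgroupOf K).Normal) := fun ⟨n1, n2⟩ => nsK (by
    have nT : (T.subgroupOf K).Normal := fr.sup ▸ inferInstance
    have : Group.IsSolvable (T.subgroupOf K) := by
      have := fr.syl.pg.isNilpotent
      infer_instance
    have : Group.IsSolvable (K ⧸ T.subgroupOf K) := FTC.solvable_of_odd (by
      have := fr.syl.not_dvd
      rw [relIndex_top_right] at this
      rw [← index_eq_card, ← Nat.not_even_iff_odd, even_iff_two_dvd]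
      exact this)
    exact solvable_of_ker_le_range (T.subgroupOf K).subtype (QuotientGroup.mk' (T.subgroupOf K)) (by simp))
  have bi : b⁻¹ = b := inv_eq_of_mul_eq_one_right h.b2
  have sw : ∀ {X Y : Subgroup G}, (∀ x ∈ X, b * x * b⁻¹ ∈ Y) → (∀ x ∈ Y, b * x * b⁻¹ ∈ X) →
      (X.subgroupOf K).Normal → (Y.subgroupOf K).Normal := fun {X Y} h1 h2 n => ⟨fun y hy g => by
    have := h1 _ (n.conj_mem ⟨b * y * b⁻¹, nK.conj_mem _ y.2 b⟩ (h2 y hy) ⟨b * g * b⁻¹, nK.conj_mem _ g.2 b⟩)
    have e : b * (b * g * b⁻¹ * (b * y * b⁻¹) * (b * g * b⁻¹)⁻¹) * b⁻¹ = g * y * (g : G)⁻¹ := by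
      calc _ = b * b * (g * y * (g : G)⁻¹) * (b * b)⁻¹ := by group
        _ = _ := by rw [h.b2]; group
    exact (show (g : G) * y * (g : G)⁻¹ ∈ Y from e ▸ this)⟩
  refine fin hF K (pgl hF fr hO (fun n => nn ⟨n, sw h.bA h.bB n⟩) (fun n => nn ⟨sw h.bB h.bA n, n⟩)
    (z := ⟨z, zK⟩) h.t3_zU (fun e => h.z1 (congrArg Subtype.val e)) ?_) hi ?_
  · rw [← hH, ← Nat.card_congr (subgroupOfEquivOfLe (inf_le_right : C1[z] ⊓ K ≤ K)).toEquiv]
    congr 2
    ext x
    simp [mem_subgroupOf, mem_centralizer_singleton_iff, Subtype.ext_iff]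
  · have nC : (centralizer (K : Set G)).Normal := inferInstance
    have zC : z ∉ centralizer (K : Set G) := fun hz => nsK (by
      have := h.t5_solH
      exact solvable_of_solvable_injective (f := inclusion (show K ≤ C1[z] from fun k hk =>
        t3_mem.2 (mem_centralizer_iff.1 hz k hk))) (inclusion_injective _))
    have vC : v ∉ centralizer (K : Set G) := fun hv => zC (by
      obtain ⟨g, e⟩ := isConj_iff.1 h.zv.symm
      exact e ▸ nC.conj_mem _ hv g)
    have wC : v * z ∉ centralizer (K : Set G) := fun hv => vC (by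
      have := nC.conj_mem' _ hv b
      rw [← h.bv] at this
      simpa [mul_assoc] using this)
    have QC : ∀ y ∈ Q, y ∈ centralizer (K : Set G) → y = 1 := fun y hy hc => by
      have cT : ∀ t ∈ T, t * y = y * t := fun t ht => mem_centralizer_iff.1 hc t (TK ht)
      have yT : y ∈ T := by
        by_contra yT
        have i2 : T.relIndex Q = 2 := by
          have := card_inf_mul_relIndex T Q
          rw [inf_eq_left.2 h.TQ, h.cT, h.cQ] at this; omega
        have m : y⁻¹ * b ∈ T := by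
          have := (mul_mem_iff_of_index_two (H := T.subgroupOf Q) i2 (a := ⟨y⁻¹, inv_mem hy⟩) (b := ⟨b, h.bQ⟩)).2
            (by simp [mem_subgroupOf, yT, h.bT])
          exact this
        have e1 := h.Tv _ m
        have e2 := cT v (h.AT h.t3_vU.1)
        have : b * v * b⁻¹ = v := by
          calc b * v * b⁻¹ = y * (y⁻¹ * b * v) * b⁻¹ := by group
            _ = y * v * y⁻¹ := by rw [e1]; group
            _ = v := by rw [← e2]; group
        rw [h.bv] at this
        exact h.z1 (by simpa using this)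
      obtain ⟨a, ha, a', ha', rfl⟩ := h.AB y yT
      have U : a * a' ∈ A ⊓ B := by
        have key : ∀ {X Y : Subgroup K}, L34S.Fr (T.subgroupOf K) X Y → (⟨_, TK yT⟩ : K) ∈ X → (⟨_, TK yT⟩ : K) ∈ Y :=
          fun {X Y} f hx => by
            by_contra hn
            exact f.symm.nle fun t ht => f.cenA hx hn (f.BT ht) (Subtype.ext (cT _ (f.BT ht)))
        have e : a * a' = a' * a := by
          have := cT a (h.AT ha)
          rw [mul_assoc] at this
          exact mul_left_cancel this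
        rcases fr.cen ⟨a, TK (h.AT ha)⟩ ha ⟨a', TK (h.BT ha')⟩ ha' (Subtype.ext e) with e1 | e1
        · exact ⟨key fr.symm (mul_mem (show a ∈ B from e1) ha'), mul_mem e1 ha'⟩
        · exact ⟨mul_mem ha e1, key fr (mul_mem ha (show a' ∈ A from e1))⟩
      rcases (h.U _).1 U with e | e | e | e
      · exact e
      · exact absurd (e ▸ hc) zC
      · exact absurd (e ▸ hc) vC
      · exact absurd (e ▸ hc) wC
    refine eq_bot_iff.2 fun x hx => ?_
    have xH : x ∈ C1[z] := t3_mem.2 (mem_centralizer_iff.1 hx z zK).symm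
    rcases h.CQ x xH (fun q hq => by
      have := QC (x * q * x⁻¹ * q⁻¹) (mul_mem (h.nQ x xH q hq) (inv_mem hq)) (by
        have := mul_mem hx (nC.conj_mem _ (inv_mem hx) q)
        simpa only [mul_assoc] using this)
      rwa [mul_inv_eq_one, mul_inv_eq_iff_eq_mul] at this) with e | e
    · exact e
    · exact absurd (e ▸ hx) zC

end Cfsg.Agent.A34
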